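import Cfsg.Agent.Lib.Solvable.Basic
import Cfsg.Agent.Lib.Cores.Subnormal
import Cfsg.Agent.Lib.PGroup.Basic
import Cfsg.Agent.Lib.PLocal.Thompson
import Cfsg.Agent.Lib.Transfer.Residual
import Cfsg.Agent.Lib.Transfer.NilpotentHall
import Cfsg.Agent.Lib.CN.Basic
import Cfsg.Agent.S0602

/-!
# Splitting elements (helper76)

`X` finite, `H` normal of prime index `p`, every element outside `H` of order dividing `p`.

* `coe_norm_mul`: `(v g)^n` is the norm of `v` times `g ^ n`
* `pow_fixed_of_two_commuting`: the averaging argument for two commuting elements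
* `ThompsonCriterion`: the statement of the normal `p`-complement theorem of Thompson, as a hypothesis
* `isNilpotent_of_split`: `H` is nilpotent (Kegel), given the criterion
-/

set_option autoImplicit false

open scoped IsMulCommutative Pointwise

namespace Cfsg.Agent.SplitAut

universe u

variable {X : Type u} [Group X]

/-- Thompson's normal `q`-complement criterion for all groups in one universe. -/
def ThompsonCriterion : Prop :=
  ∀ (Y : Type u) [Group Y] [Finite Y] (q : ℕ) [Fact q.Prime], q ≠ 2 → ∀ Q : Sylow q Y,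
    HasNormalPComplement q (Subgroup.normalizer (Cfsg.thompsonSubgroupOf q (Q : Subgroup Y) : Set Y)) →
    HasNormalPComplement q (Subgroup.centralizer (((Q : Subgroup Y) ⊓ Subgroup.centralizer (Q : Set Y)) : Set Y)) →
    HasNormalPComplement q Y

/-- The norm of `v` under the first `n` powers of `g`. -/
def norm (V : Subgroup X) [V.Normal] [IsMulCommutative V] (g : X) (n : ℕ) (v : V) : V :=
  ∏ k ∈ Finset.range n, MulAut.conjNormal (g ^ k) v

theorem coe_norm_mul (V : Subgroup X) [V.Normal] [IsMulCommutative V] (g : X) (v : V) (n : ℕ) :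
    ((norm V g n v : V) : X) * g ^ n = ((v : X) * g) ^ n := by
  induction n with
  | zero => simp [norm]
  | succ n ih =>
    rw [norm, Finset.prod_range_succ, ← norm, pow_succ _ n, pow_succ _ n, ← ih, Subgroup.coe_mul,
      MulAut.conjNormal_apply]
    group

theorem norm_eq_one {V : Subgroup X} [V.Normal] [IsMulCommutative V] {g : X} {p : ℕ} {v : V}
    (hg : g ^ p = 1) (hvg : ((v : X) * g) ^ p = 1) : norm V g p v = 1 :=
  Subtype.ext (by
    have h := coe_norm_mul V g v p
    rw [hg, hvg, mul_one] at h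
    exact h)

/-- If the norms of the powers of `b` and of `a b^i` vanish, then `a` fixes `v ^ p`. -/
theorem pow_fixed_of_two_commuting {V : Subgroup X} [V.Normal] [IsMulCommutative V] {a b : X} {p : ℕ}
    (hp : 0 < p) (hab : Commute a b) (ha : a ^ p = 1) (v : V)
    (hb : ∀ k, 0 < k → k < p → norm V (b ^ k) p v = 1)
    (hc : ∀ i, 0 < i → i < p → norm V (a * b ^ i) p v = 1) :
    MulAut.conjNormal a (v ^ p) = v ^ p := by
  have h0 : 0 ∈ Finset.range p := Finset.mem_range.mpr hp
  have e1 : ∏ i ∈ Finset.range p, norm V (a * b ^ i) p v = norm V a p v := by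
    rw [Finset.prod_eq_single_of_mem 0 h0 (fun i hi h => hc i (Nat.pos_of_ne_zero h) (Finset.mem_range.mp hi)),
      pow_zero, mul_one]
  have e2 : ∏ i ∈ Finset.range p, norm V (a * b ^ i) p v = v ^ p := by
    simp only [norm]
    rw [Finset.prod_comm, Finset.prod_eq_single_of_mem 0 h0]
    · simp [pow_zero, map_one]
    · intro k hk hk0
      have : ∀ i ∈ Finset.range p, MulAut.conjNormal ((a * b ^ i) ^ k) v =
          MulAut.conjNormal (a ^ k) (MulAut.conjNormal ((b ^ k) ^ i) v) := fun i _ => by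
        rw [(hab.pow_right i).mul_pow, ← pow_mul, mul_comm i k, pow_mul, map_mul, MulAut.mul_apply]
      rw [Finset.prod_congr rfl this, ← map_prod, ← norm, hb k (Nat.pos_of_ne_zero hk0) (Finset.mem_range.mp hk),
        map_one]
  have hN : norm V a p v = v ^ p := e1.symm.trans e2
  rw [← hN, norm, map_prod]
  have : ∀ k, MulAut.conjNormal a (MulAut.conjNormal (a ^ k) v) = MulAut.conjNormal (a ^ (k + 1)) v := fun k => by
    rw [← MulAut.mul_apply, ← map_mul, ← pow_succ']
  simp only [this]
  obtain ⟨m, rfl⟩ : ∃ m, p = m + 1 := ⟨p - 1, by omega⟩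
  rw [Finset.prod_range_succ, Finset.prod_range_succ' (fun k => MulAut.conjNormal (a ^ k) v), ha, pow_zero]

theorem eq_of_pow_fixed {V : Subgroup X} [V.Normal] [IsMulCommutative V] [Finite V] {a : X} {p : ℕ}
    (hco : (Nat.card V).Coprime p) {v : V} (h : MulAut.conjNormal a (v ^ p) = v ^ p) : MulAut.conjNormal a v = v := by
  rw [map_pow] at h
  exact (powCoprime hco).injective h

theorem pow_eq_one_left {H : Subgroup X} [H.Normal] [Finite X] {p : ℕ} (hp : p.Prime) (hidx : H.index = p) {y : X}
    (hy : y ∉ H) {k : ℕ} (hk : ¬ p ∣ k) : y ^ k ∉ H := by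
  intro h
  apply hy
  have hyp : y ^ p ∈ H := hidx ▸ Subgroup.pow_index_mem H y
  exact Transfer.mem_of_pow_mem_of_coprime ((hp.coprime_iff_not_dvd.mpr hk).symm) h hyp

theorem exists_outside {H : Subgroup X} [Finite X] {p : ℕ} (hp : p.Prime) (hidx : H.index = p) (S : Subgroup X)
    (hS : S ⊔ H = ⊤) : ∃ y ∈ S, y ∉ H := by
  by_contra h
  push Not at h
  rw [sup_eq_right.mpr h] at hS
  rw [hS, Subgroup.index_top] at hidx
  exact hp.ne_one hidx.symm

theorem normal_of_normalizers {H N : Subgroup X} [Finite X] {p : ℕ} [H.Normal] (hp : p.Prime) (hidx : H.index = p)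
    (hH : H ≤ Subgroup.normalizer (N : Set X)) {y : X} (hyH : y ∉ H) (hy : y ∈ Subgroup.normalizer (N : Set X)) :
    N.Normal := by
  rw [← Subgroup.normalizer_eq_top_iff]
  have hdvd := Subgroup.index_dvd_of_le hH
  rw [hidx, Nat.dvd_prime hp] at hdvd
  rcases hdvd with h | h
  · exact Subgroup.index_eq_one.mp h
  · exfalso
    apply hyH
    have e : H = Subgroup.normalizer (N : Set X) := by
      refine Subgroup.eq_of_le_of_card_ge hH (le_of_eq ?_)
      apply Nat.eq_of_mul_eq_mul_right hp.pos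
      nth_rw 1 [← h]
      rw [← hidx, Subgroup.card_mul_index, Subgroup.card_mul_index]
    rw [e]; exact hy

/-- A subgroup of `H` normalised by an element outside `H` inherits the hypothesis. -/
theorem sub_split {H : Subgroup X} [H.Normal] [Finite X] {p : ℕ} (hp : p.Prime) (hidx : H.index = p)
    (hs : ∀ y, y ∉ H → y ^ p = 1) {K : Subgroup X} (hKH : K ≤ H) {y : X} (hyH : y ∉ H)
    (hy : y ∈ Subgroup.normalizer (K : Set X)) :
    ∃ W : Subgroup X, K ≤ W ∧ (K.subgroupOf W).Normal ∧ (K.subgroupOf W).index = p ∧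
      ∀ w : W, w ∉ K.subgroupOf W → w ^ p = 1 := by
  set W := Subgroup.zpowers y ⊔ K with hW
  have hle : W ≤ Subgroup.normalizer (K : Set X) := sup_le (Subgroup.zpowers_le.mpr hy) Subgroup.le_normalizer
  haveI hn : (K.subgroupOf W).Normal := (Subgroup.normal_subgroupOf_iff_le_normalizer le_sup_right).mpr hle
  have hinf : W ⊓ H = K := by
    refine le_antisymm ?_ (le_inf le_sup_right hKH)
    rintro w ⟨hw, hwH⟩
    change w ∈ W at hw
    change w ∈ H at hwH
    have hw' : w ∈ ((Subgroup.zpowers y : Subgroup X) : Set X) * (K : Set X) := by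
      rwa [← Subgroup.coe_mul_of_left_le_normalizer_right (Subgroup.zpowers y) K (Subgroup.zpowers_le.mpr hy)]
    obtain ⟨_, ⟨m, rfl⟩, k, hk, rfl⟩ := hw'
    have hm : y ^ m ∈ H := by simpa using mul_mem hwH (inv_mem (hKH hk))
    have hyp : y ^ (p : ℤ) = 1 := by rw [zpow_natCast]; exact hs y hyH
    obtain ⟨j, rfl⟩ : (p : ℤ) ∣ m := by
      by_contra hd
      apply hyH
      obtain ⟨a, b, hab⟩ := (Nat.prime_iff_prime_int.mp hp).irreducible.coprime_iff_not_dvd.mpr hd
      rw [← zpow_one y, ← hab, zpow_add, mul_comm a, zpow_mul, hyp, one_zpow, one_mul, mul_comm b, zpow_mul]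
      exact zpow_mem hm b
    show y ^ ((p : ℤ) * j) * k ∈ K
    rw [zpow_mul, hyp, one_zpow, one_mul]
    exact hk
  refine ⟨W, le_sup_right, hn, ?_, fun w hw => Subtype.ext (hs w fun hwH => hw ?_)⟩
  · show K.relIndex W = p
    rw [← hinf, Subgroup.inf_relIndex_left]
    have hd : H.relIndex W ∣ p := hidx ▸ Subgroup.relIndex_dvd_index_of_normal H W
    refine ((Nat.dvd_prime hp).mp hd).resolve_left fun h1 => hyH ?_
    exact (Subgroup.relIndex_eq_one.mp h1) (Subgroup.mem_sup_left (Subgroup.mem_zpowers y))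
  · rw [Subgroup.mem_subgroupOf, ← hinf]
    exact ⟨w.2, hwH⟩

theorem exists_pi_subgroup {q : ℕ} [Fact q.Prime] [Finite X] {Q : Subgroup X} (hQ : IsPGroup q Q) (hne : Q ≠ ⊥) :
    Q ⊓ Subgroup.centralizer (Q : Set X) ≠ ⊥ := by
  haveI : Nontrivial Q := (Subgroup.nontrivial_iff_ne_bot Q).mpr hne
  have := hQ.center_nontrivial
  obtain ⟨z, hz⟩ := exists_ne (1 : Subgroup.center Q)
  intro h
  apply hz
  have hmem : ((z : Q) : X) ∈ Q ⊓ Subgroup.centralizer (Q : Set X) :=
    ⟨z.1.2, fun w hw => congrArg Subtype.val (Subgroup.mem_center_iff.mp z.2 ⟨w, hw⟩)⟩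
  rw [h, Subgroup.mem_bot] at hmem
  exact Subtype.ext (Subtype.ext hmem)

/-- A minimal counterexample to Kegel's theorem has a proper nontrivial normal subgroup inside `H`. -/
theorem exists_normal_below (hT : ThompsonCriterion.{u}) [Finite X] {H : Subgroup X} [H.Normal] {p : ℕ}
    (hp : p.Prime) (hidx : H.index = p)
    (hsub : ∀ K : Subgroup X, K ≤ H → K ≠ H → ∀ y, y ∉ H → y ∈ Subgroup.normalizer (K : Set X) → Group.IsNilpotent K)
    (hnn : ¬ Group.IsNilpotent H) :
    ∃ N : Subgroup X, N.Normal ∧ N ≤ H ∧ N ≠ H ∧ N ≠ ⊥ := by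
  obtain ⟨q, hq, hq2, hqd⟩ : ∃ q, q.Prime ∧ q ≠ 2 ∧ q ∣ Nat.card H := by
    by_contra h
    push Not at h
    haveI : Fact (Nat.Prime 2) := ⟨Nat.prime_two⟩
    exact hnn (IsPGroup.isNilpotent (p := 2) (IsPGroup.of_card (Nat.eq_prime_pow_of_unique_prime_dvd Nat.card_pos.ne'
      (fun {d} hd hdd => by by_contra hne; exact h d hd hne hdd))))
  haveI := Fact.mk hq
  obtain ⟨Q⟩ : Nonempty (Sylow q H) := inferInstance
  set Q' : Subgroup X := (Q : Subgroup H).map H.subtype with hQ'
  have hQ'H : Q' ≤ H := Subgroup.map_subtype_le _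
  have hQ'q : IsPGroup q Q' := Q.isPGroup'.map _
  have hQ'ne : Q' ≠ ⊥ := by
    rw [hQ', Ne, Subgroup.map_eq_bot_iff_of_injective _ H.subtype_injective]
    exact Q.ne_bot_of_dvd_card hqd
  obtain ⟨y, hyQ, hyH⟩ := exists_outside hp hidx _ (Sylow.normalizer_sup_eq_top Q)
  have hsmall : ∀ L : Subgroup X, L ≤ Q' → L ≠ H := fun L hL h => hnn (by
    haveI := (hQ'q.to_le hL).isNilpotent
    exact h ▸ this)
  set J : Subgroup X := Cfsg.thompsonSubgroupOf q Q' with hJ
  have hJQ : J ≤ Q' := PLocal.thompsonSubgroupOf_le _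
  have hyJ : y ∈ Subgroup.normalizer (J : Set X) := PLocal.normalizer_le_normalizer_thompsonSubgroupOf _ hyQ
  have hJne : J ≠ ⊥ := by
    rw [hJ]
    show (Cfsg.thompsonSubgroup q Q').map Q'.subtype ≠ ⊥
    rw [Ne, Subgroup.map_eq_bot_iff_of_injective _ Q'.subtype_injective]
    refine (Cfsg.Agent.S0602.result (G := Q') (p := q)).2 ?_
    obtain ⟨k, hk⟩ := IsPGroup.iff_card.mp hQ'q
    rcases k with _ | k
    · exact absurd (Subgroup.card_eq_one.mp (hk.trans (pow_zero q))) hQ'ne
    · rw [hk]; exact dvd_pow_self q (Nat.succ_ne_zero k)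
  by_cases hNJ : H ≤ Subgroup.normalizer (J : Set X)
  · exact ⟨J, normal_of_normalizers hp hidx hNJ hyH hyJ, hJQ.trans hQ'H, hsmall J hJQ, hJne⟩
  set Z : Subgroup X := Q' ⊓ Subgroup.centralizer (Q' : Set X) with hZ
  have hyZ : y ∈ Subgroup.normalizer (Z : Set X) := by
    rw [hZ]
    have h1 : y ∈ Subgroup.normalizer ((Subgroup.centralizer (Q' : Set X) : Subgroup X) : Set X) := by
      have key : ∀ g, g ∈ Subgroup.normalizer (Q' : Set X) → ∀ w, w ∈ Subgroup.centralizer (Q' : Set X) →
          g * w * g⁻¹ ∈ Subgroup.centralizer (Q' : Set X) := by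
        intro g hg w hw
        rw [Subgroup.mem_centralizer_iff] at hw ⊢
        intro a ha
        have ha' : g⁻¹ * a * g ∈ Q' := by
          have := (Subgroup.mem_normalizer_iff.mp (inv_mem hg) a).mp ha
          simpa using this
        have := congrArg (fun z => g * z * g⁻¹) (hw _ ha')
        simpa [mul_assoc] using this
      rw [Subgroup.mem_normalizer_iff]
      intro w
      refine ⟨key y hyQ w, fun h => ?_⟩
      have := key y⁻¹ (inv_mem hyQ) _ h
      simpa [mul_assoc] using this
    rw [Subgroup.mem_normalizer_iff] at h1 hyQ ⊢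
    intro w
    simp only [Subgroup.mem_inf]
    rw [← hyQ w, ← h1 w]
  by_cases hCZ : H ≤ Subgroup.centralizer (Z : Set X)
  · exact ⟨Z, normal_of_normalizers hp hidx (hCZ.trans (Subgroup.centralizer_le_normalizer _)) hyH hyZ,
      inf_le_left.trans hQ'H, hsmall Z inf_le_left, exists_pi_subgroup hQ'q hQ'ne⟩
  -- both local subgroups are proper, hence nilpotent
  have hloc : ∀ L : Subgroup X, L ≤ H → L ≠ H → y ∈ Subgroup.normalizer (L : Set X) →
      HasNormalPComplement q (L.subgroupOf H) := by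
    intro L hL hLne hy
    haveI := hsub L hL hLne y hyH hy
    haveI : Group.IsNilpotent (L.subgroupOf H) :=
      (Group.isNilpotent_congr (Subgroup.subgroupOfEquivOfLe hL).symm).mp inferInstance
    exact Transfer.hasNormalPComplement_of_isNilpotent q
  have hyH' : ∀ w, w ∈ H ↔ y * w * y⁻¹ ∈ H := Subgroup.mem_normalizer_iff.mp (by
    rw [Subgroup.normalizer_eq_top_iff.mpr ‹H.Normal›]; exact Subgroup.mem_top y)
  have hJmap : (Cfsg.thompsonSubgroupOf q (Q : Subgroup H)).map H.subtype = J :=
    PLocal.map_thompsonSubgroupOf H.subtype H.subtype_injective.injOn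
  have hN : HasNormalPComplement q (Subgroup.normalizer (Cfsg.thompsonSubgroupOf q (Q : Subgroup H) : Set H)) := by
    have e : Subgroup.normalizer (Cfsg.thompsonSubgroupOf q (Q : Subgroup H) : Set H) =
        (Subgroup.normalizer (J : Set X) ⊓ H).subgroupOf H := by
      rw [Subgroup.inf_subgroupOf_right, Subgroup.subgroupOf_normalizer_eq (hJQ.trans hQ'H)]
      congr 2
      rw [← hJmap, Subgroup.subgroupOf, Subgroup.comap_map_eq_self_of_injective H.subtype_injective]
    rw [e]
    refine hloc _ inf_le_right (fun h => hNJ (inf_eq_right.mp h)) ?_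
    rw [Subgroup.mem_normalizer_iff]
    intro w
    have h1 := (Subgroup.mem_normalizer_iff.mp (Subgroup.le_normalizer hyJ)) w
    simp only [Subgroup.mem_inf, ← hyH' w]
    exact and_congr_left' h1
  have hC : HasNormalPComplement q
      (Subgroup.centralizer (((Q : Subgroup H) ⊓ Subgroup.centralizer (Q : Set H)) : Set H)) := by
    have hmemZ : ∀ v : H, v ∈ (Q : Subgroup H) ⊓ Subgroup.centralizer (Q : Set H) ↔ (v : X) ∈ Z := by
      intro v
      rw [hZ, Subgroup.mem_inf, Subgroup.mem_inf, hQ', Subgroup.mem_centralizer_iff, Subgroup.mem_centralizer_iff,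
        Subgroup.mem_map]
      constructor
      · rintro ⟨h1, h2⟩
        refine ⟨⟨v, h1, rfl⟩, ?_⟩
        rintro _ ⟨w, hw, rfl⟩
        exact congrArg Subtype.val (h2 w hw)
      · rintro ⟨⟨v', h1, hv'⟩, h2⟩
        obtain rfl : v' = v := Subtype.ext hv'
        exact ⟨h1, fun w hw => Subtype.ext (h2 _ ⟨w, hw, rfl⟩)⟩
    have e : Subgroup.centralizer (((Q : Subgroup H) ⊓ Subgroup.centralizer (Q : Set H)) : Set H) =
        (Subgroup.centralizer (Z : Set X) ⊓ H).subgroupOf H := by
      rw [Subgroup.inf_subgroupOf_right]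
      ext w
      rw [Subgroup.mem_subgroupOf, Subgroup.mem_centralizer_iff, Subgroup.mem_centralizer_iff]
      constructor
      · intro h v hv
        exact congrArg Subtype.val (h ⟨v, hQ'H (inf_le_left (a := Q') hv)⟩ ((hmemZ _).mpr hv))
      · intro h v hv
        exact Subtype.ext (h v ((hmemZ v).mp hv))
    rw [e]
    refine hloc _ inf_le_right (fun h => hCZ (inf_eq_right.mp h)) ?_
    rw [Subgroup.mem_normalizer_iff]
    intro w
    simp only [Subgroup.mem_inf, ← hyH' w, Subgroup.mem_centralizer_iff]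
    refine and_congr_left' ⟨fun hw a ha => ?_, fun hw a ha => ?_⟩
    · have ha' : y⁻¹ * a * y ∈ Z := by
        have := (Subgroup.mem_normalizer_iff.mp (inv_mem hyZ) a).mp ha
        simpa using this
      have := congrArg (fun z => y * z * y⁻¹) (hw _ ha')
      simpa [mul_assoc] using this
    · have := congrArg (fun z => y⁻¹ * z * y) (hw _ ((Subgroup.mem_normalizer_iff.mp hyZ a).mp ha))
      simpa [mul_assoc] using this
  have hH : HasNormalPComplement q H := hT H q hq2 Q hN hC
  obtain ⟨P, K, hKn, hK⟩ := hH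
  have hKeq := Transfer.complement_eq_pResidual P hK
  haveI : K.Characteristic := by rw [hKeq]; exact Transfer.pResidual_characteristic
  refine ⟨K.map H.subtype, Cores.map_subtype_normal_of_characteristic H K, Subgroup.map_subtype_le _, ?_, ?_⟩
  · intro h
    have hKtop : K = ⊤ := Subgroup.map_injective H.subtype_injective (by
      rw [h, ← MonoidHom.range_eq_map, Subgroup.range_subtype])
    rw [hKtop, Subgroup.isComplement'_top_left] at hK
    exact P.ne_bot_of_dvd_card hqd hK
  · rw [Ne, Subgroup.map_eq_bot_iff_of_injective _ H.subtype_injective]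
    intro h
    rw [h, Subgroup.isComplement'_bot_left] at hK
    apply hnn
    haveI := P.isPGroup'.isNilpotent
    exact (Group.isNilpotent_congr ((MulEquiv.subgroupCongr hK).trans Subgroup.topEquiv)).mp inferInstance

theorem isNilpotent_of_split_aux (hT : ThompsonCriterion.{u}) (n : ℕ) : ∀ (X : Type u) [Group X] [Finite X]
    (H : Subgroup X) [H.Normal] (p : ℕ), p.Prime → H.index = p → (∀ y, y ∉ H → y ^ p = 1) → Nat.card H = n →
    Group.IsNilpotent H := by
  induction n using Nat.strong_induction_on with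
  | _ n ih =>
  intro X _ _ H _ p hp hidx hs hn
  by_contra hnn
  have hsub : ∀ K : Subgroup X, K ≤ H → K ≠ H → ∀ y, y ∉ H → y ∈ Subgroup.normalizer (K : Set X) →
      Group.IsNilpotent K := by
    intro K hKH hne y hyH hy
    obtain ⟨W, hKW, hn', hi, hsW⟩ := sub_split hp hidx hs hKH hyH hy
    have hc : Nat.card (K.subgroupOf W) = Nat.card K := Nat.card_congr (Subgroup.subgroupOfEquivOfLe hKW).toEquiv
    haveI := ih _ (by
      rw [hc, ← hn]
      exact lt_of_le_of_ne (Subgroup.card_le_of_le hKH) fun h => hne (Subgroup.eq_of_le_of_card_ge hKH h.ge))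
      W (K.subgroupOf W) p hp hi hsW rfl
    exact (Group.isNilpotent_congr (Subgroup.subgroupOfEquivOfLe hKW)).mp inferInstance
  have hquot : ∀ N : Subgroup X, [N.Normal] → N ≤ H → N ≠ ⊥ →
      Group.IsNilpotent (H.map (QuotientGroup.mk' N)) := by
    intro N _ hNH hNne
    have hs' := QuotientGroup.mk'_surjective N
    haveI : (H.map (QuotientGroup.mk' N)).Normal := Subgroup.Normal.map inferInstance _ hs'
    have hker : (QuotientGroup.mk' N).ker ≤ H := by rw [QuotientGroup.ker_mk']; exact hNH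
    have hidx' : (H.map (QuotientGroup.mk' N)).index = p := by rw [Subgroup.index_map_eq H hs' hker, hidx]
    refine ih _ ?_ _ _ p hp hidx' ?_ rfl
    · rw [← hn]
      have h1 : Nat.card (H.map (QuotientGroup.mk' N)) = N.relIndex H := by
        rw [← Subgroup.relIndex_bot_left, ← Subgroup.map_bot (QuotientGroup.mk' N), Subgroup.relIndex_map_map,
          QuotientGroup.ker_mk', bot_sup_eq, sup_eq_left.mpr hNH]
      have h3 : Nat.card N * N.relIndex H = Nat.card H := by
        rw [← Subgroup.relIndex_bot_left, Subgroup.relIndex_mul_relIndex _ _ _ bot_le hNH, Subgroup.relIndex_bot_left]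
      rw [h1, ← h3]
      exact lt_mul_left (Nat.pos_of_ne_zero Subgroup.index_ne_zero_of_finite) ((Subgroup.one_lt_card_iff_ne_bot N).mpr hNne)
    · intro w hw
      obtain ⟨x, rfl⟩ := hs' w
      rw [← map_pow, hs x (fun hx => hw (Subgroup.mem_map_of_mem _ hx)), map_one]
  obtain ⟨N₀, hN₀n, hN₀H, hN₀ne, hN₀bot⟩ := exists_normal_below hT hp hidx hsub hnn
  obtain ⟨y₀, -, hy₀⟩ := exists_outside hp hidx ⊤ (top_sup_eq _)
  obtain ⟨V, hVn, hV0, hVN, hVmin⟩ := Solvable.exists_minimal_normal (N := N₀) hN₀bot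
  have hVH : V ≤ H := hVN.trans hN₀H
  haveI : Group.IsSolvable V := by
    haveI := hsub N₀ hN₀H hN₀ne y₀ hy₀ (by rw [Subgroup.normalizer_eq_top_iff.mpr hN₀n]; exact Subgroup.mem_top y₀)
    exact Solvable.isSolvable_of_le hVN
  obtain ⟨hVc, r, hr, hVr, hVexp⟩ := Solvable.elementaryAbelian_of_minimal_normal V hV0 hVmin
  haveI := Fact.mk hr
  haveI := hVc
  -- `V` is the only minimal normal subgroup inside `H`
  have huniq : ∀ W : Subgroup X, W.Normal → W ≤ H → W ⊓ V = ⊥ → W = ⊥ := by
    intro W hWn hWH hWV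
    by_contra hW
    haveI := hquot W hWH hW
    haveI := hquot V hVH hV0
    let f : H →* H.map (QuotientGroup.mk' W) × H.map (QuotientGroup.mk' V) :=
      ((QuotientGroup.mk' W).subgroupMap H).prod ((QuotientGroup.mk' V).subgroupMap H)
    have hf : Function.Injective f := by
      rw [injective_iff_map_eq_one]
      intro x hx
      have h1 : (x : X) ∈ W := (QuotientGroup.eq_one_iff _).mp (congrArg Subtype.val (congrArg Prod.fst hx))
      have h2 : (x : X) ∈ V := (QuotientGroup.eq_one_iff _).mp (congrArg Subtype.val (congrArg Prod.snd hx))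
      exact Subtype.ext (Subgroup.mem_bot.mp (hWV ▸ ⟨h1, h2⟩))
    haveI : Group.IsNilpotent f.range := inferInstance
    exact hnn ((Group.isNilpotent_congr (MonoidHom.ofInjective hf).symm).mp inferInstance)
  haveI hHV := hquot V hVH hV0
  set π := QuotientGroup.mk' V with hπ
  have hkπ : π.ker = V := QuotientGroup.ker_mk' V
  -- images of Sylow subgroups are normal in the quotient
  have hnormimg : ∀ (q : ℕ) [Fact q.Prime] (Q : Sylow q H),
      H ≤ Subgroup.normalizer (((Q : Subgroup H).map H.subtype ⊔ V : Subgroup X) : Set X) := by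
    intro q _ Q
    have hsm := π.subgroupMap_surjective H
    have h03 : ∀ (p : ℕ) (_ : Fact p.Prime) (P : Sylow p (H.map π)), (P : Subgroup (H.map π)).Normal :=
      ((Group.isNilpotent_of_finite_tfae (G := H.map π)).out 0 3).mp hHV
    have hn' : ((Q.mapSurjective hsm : Sylow q (H.map π)) : Subgroup (H.map π)).Normal := h03 q inferInstance _
    rw [Sylow.coe_mapSurjective] at hn'
    intro x hx
    rw [← hkπ, ← Subgroup.comap_map_eq, ← Subgroup.comap_normalizer_eq_of_surjective _ (QuotientGroup.mk'_surjective V),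
      Subgroup.mem_comap]
    rw [Subgroup.mem_normalizer_iff]
    have key : ∀ b ∈ (H.map π), ∀ a ∈ ((Q : Subgroup H).map H.subtype).map π,
        b * a * b⁻¹ ∈ ((Q : Subgroup H).map H.subtype).map π := by
      intro b hb a ha
      obtain ⟨_, ⟨c, hc, rfl⟩, rfl⟩ := ha
      obtain ⟨d, hd, hde⟩ := hn'.conj_mem _ (Subgroup.mem_map_of_mem _ hc) ⟨b, hb⟩
      exact ⟨_, ⟨d, hd, rfl⟩, congrArg Subtype.val hde⟩
    intro a
    refine ⟨key _ (Subgroup.mem_map_of_mem π hx) a, fun h => ?_⟩
    have := key _ (inv_mem (Subgroup.mem_map_of_mem π hx)) _ h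
    have e : (π x)⁻¹ * (π x * a * (π x)⁻¹) * ((π x)⁻¹)⁻¹ = a := by group
    rwa [e] at this
  obtain ⟨q, hq, hqr, Q, hQV⟩ : ∃ (q : ℕ) (_ : Fact q.Prime), q ≠ r ∧ ∃ Q : Sylow q H,
      ¬ (Q : Subgroup H).map H.subtype ≤ Subgroup.centralizer (V : Set X) := by
    by_contra hcon
    push Not at hcon
    apply hnn
    refine ((Group.isNilpotent_of_finite_tfae (G := H)).out 0 3).mpr fun q hqF Q => ?_
    haveI := hqF
    rw [← Subgroup.normalizer_eq_top_iff, eq_top_iff]
    intro x _
    have key : ∀ x : H, ∀ a ∈ (Q : Subgroup H), x * a * x⁻¹ ∈ (Q : Subgroup H) := by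
      intro x a ha
      have h1 := (Subgroup.mem_normalizer_iff.mp (hnormimg q Q x.2) a).mp
        (Subgroup.mem_sup_left (Subgroup.mem_map_of_mem H.subtype ha))
      rcases eq_or_ne q r with rfl | hne
      · -- `V` lies in every Sylow `r`-subgroup
        have hV' : IsPGroup q (V.subgroupOf H) := hVr.of_equiv (Subgroup.subgroupOfEquivOfLe hVH).symm
        haveI : (V.subgroupOf H).Normal := inferInstance
        have hle : V ≤ (Q : Subgroup H).map H.subtype := by
          intro v hv
          have hsup : IsPGroup q ((V.subgroupOf H) ⊔ (Q : Subgroup H) : Subgroup H) :=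
            hV'.to_sup_of_normal_left Q.isPGroup'
          have e := Q.3 hsup le_sup_right
          exact ⟨⟨v, hVH hv⟩, e ▸ Subgroup.mem_sup_left (S := V.subgroupOf H) (show (⟨v, hVH hv⟩ : H) ∈ V.subgroupOf H from hv), rfl⟩
        rw [sup_eq_left.mpr hle] at h1
        obtain ⟨b, hb, hbe⟩ := h1
        exact (show b = x * a * x⁻¹ from Subtype.ext hbe) ▸ hb
      · have hc := hcon q hqF hne Q
        rw [Subgroup.mem_sup_of_normal_right] at h1
        obtain ⟨_, ⟨b, hb, rfl⟩, v, hv, hbv⟩ := h1
        have hcomm : Commute ((b : H) : X) v := ((Subgroup.mem_centralizer_iff.mp (hc (Subgroup.mem_map_of_mem H.subtype hb))) v hv).symm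
        obtain ⟨i, hi⟩ := Q.isPGroup' ⟨a, ha⟩
        obtain ⟨j, hj⟩ := Q.isPGroup' ⟨b, hb⟩
        have hi' : (a : X) ^ q ^ i = 1 := congrArg (fun z : (Q : Subgroup H) => ((z : H) : X)) hi
        have hj' : (b : X) ^ q ^ j = 1 := congrArg (fun z : (Q : Subgroup H) => ((z : H) : X)) hj
        have hpow : ((b : X) * v) ^ q ^ (i + j) = 1 := by
          have hbv' : (b : X) * v = (x : X) * a * (x : X)⁻¹ := hbv
          rw [hbv', conj_pow, pow_add, pow_mul, hi', one_pow, mul_one, mul_inv_cancel]
        rw [hcomm.mul_pow, pow_add, mul_comm (q ^ i), pow_mul, hj', one_pow, one_mul, mul_comm, ← pow_add] at hpow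
        obtain ⟨k, hk⟩ := hVr ⟨v, hv⟩
        have hk' : v ^ r ^ k = 1 := congrArg Subtype.val hk
        have hv1 : v = 1 := by
          rw [← pow_one v, ← ((Nat.coprime_primes (Fact.out : q.Prime) hr).mpr hne |>.pow (i + j) k).gcd_eq_one]
          exact pow_gcd_eq_one.mpr ⟨hpow, hk'⟩
        rw [hv1, mul_one] at hbv
        exact (show b = x * a * x⁻¹ from Subtype.ext hbv) ▸ hb
    rw [Subgroup.mem_normalizer_iff]
    intro a
    refine ⟨key x a, fun h => ?_⟩
    have := key x⁻¹ _ h
    simpa [mul_assoc] using this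
  haveI := hq
  set Q' : Subgroup X := (Q : Subgroup H).map H.subtype with hQ'
  have hQ'H : Q' ≤ H := Subgroup.map_subtype_le _
  have hQ'q : IsPGroup q Q' := Q.isPGroup'.map _
  obtain ⟨y, hyQ, hyH⟩ := exists_outside hp hidx _ (Sylow.normalizer_sup_eq_top Q)
  have hyV : y ∈ Subgroup.normalizer (V : Set X) := by
    rw [Subgroup.normalizer_eq_top_iff.mpr hVn]; exact Subgroup.mem_top y
  have hL : Q' ⊔ V = H := by
    by_contra hne
    have hyL : y ∈ Subgroup.normalizer ((Q' ⊔ V : Subgroup X) : Set X) := by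
      rw [Subgroup.mem_normalizer_iff_map_conj_eq] at hyQ hyV ⊢
      rw [Subgroup.map_sup, hyQ, hyV]
    haveI := hsub (Q' ⊔ V) (sup_le hQ'H hVH) hne y hyH hyL
    apply hQV
    intro a ha
    rw [Subgroup.mem_centralizer_iff]
    intro v hv
    obtain ⟨i, hi⟩ := IsPGroup.iff_orderOf.mp hQ'q ⟨a, ha⟩
    obtain ⟨k, hk⟩ := IsPGroup.iff_orderOf.mp hVr ⟨v, hv⟩
    refine (congrArg Subtype.val (CN.commute_of_isNilpotent
      (a := (⟨a, Subgroup.mem_sup_left ha⟩ : (Q' ⊔ V : Subgroup X))) (b := ⟨v, Subgroup.mem_sup_right hv⟩) ?_).eq).symm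
    rw [Subgroup.orderOf_mk] at hi hk
    rw [Subgroup.orderOf_mk, Subgroup.orderOf_mk, hi, hk]
    exact ((Nat.coprime_primes (Fact.out : q.Prime) hr).mpr hqr).pow i k
  have hQn : ∀ a, a ∈ Q' → a ∈ Subgroup.normalizer (Q' : Set X) := fun a ha => Subgroup.le_normalizer ha
  -- `Q` acts faithfully on `V`
  have hfaith : ∀ a ∈ Q', a ∈ Subgroup.centralizer (V : Set X) → a = 1 := by
    set C := Q' ⊓ Subgroup.centralizer (V : Set X) with hC
    have hCnorm : ∀ g, g ∈ Subgroup.normalizer (Q' : Set X) → g ∈ Subgroup.normalizer (C : Set X) := by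
      intro g hg
      haveI : (Subgroup.centralizer (V : Set X)).Normal := inferInstance
      rw [Subgroup.mem_normalizer_iff_map_conj_eq] at hg ⊢
      rw [hC, Subgroup.map_inf _ _ _ (MulEquiv.injective _), hg]
      congr 1
      exact Subgroup.mem_normalizer_iff_map_conj_eq.mp (by
        rw [Subgroup.normalizer_eq_top_iff.mpr inferInstance]; exact Subgroup.mem_top g)
    have hCn : C.Normal := by
      refine normal_of_normalizers hp hidx ?_ hyH (hCnorm y hyQ)
      rw [← hL, sup_le_iff]
      refine ⟨fun a ha => hCnorm a (hQn a ha), fun v hv => Subgroup.centralizer_le_normalizer _ ?_⟩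
      rw [Subgroup.mem_centralizer_iff]
      exact fun c hc => ((Subgroup.mem_centralizer_iff.mp hc.2) v hv).symm
    have hC1 : C = ⊥ := by
      refine huniq C hCn (inf_le_left.trans hQ'H) ?_
      rw [eq_bot_iff]
      intro c hc
      obtain ⟨i, hi⟩ := hQ'q ⟨c, hc.1.1⟩
      obtain ⟨k, hk⟩ := hVr ⟨c, hc.2⟩
      rw [Subgroup.mem_bot, ← pow_one c, ← ((Nat.coprime_primes (Fact.out : q.Prime) hr).mpr hqr |>.pow i k).gcd_eq_one]
      exact pow_gcd_eq_one.mpr ⟨congrArg Subtype.val hi, congrArg Subtype.val hk⟩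
    intro a ha ha'
    exact Subgroup.mem_bot.mp (hC1 ▸ ⟨ha, ha'⟩)
  have hcent : ∀ a : X, (∀ v : V, MulAut.conjNormal a v = v) → a ∈ Subgroup.centralizer (V : Set X) := by
    intro a ha
    rw [Subgroup.mem_centralizer_iff]
    intro v hv
    have := congrArg Subtype.val (ha ⟨v, hv⟩)
    rw [MulAut.conjNormal_apply] at this
    exact (mul_inv_eq_iff_eq_mul.mp this).symm
  have hnorm1 : ∀ g, g ∉ H → ∀ v : V, norm V g p v = 1 := fun g hg v =>
    norm_eq_one (hs g hg) (hs _ fun h => hg (by simpa using mul_mem (inv_mem (hVH v.2)) h))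
  rcases eq_or_ne q p with rfl | hqp
  · -- `q = p`
    set R := Q' ⊔ Subgroup.zpowers y with hR
    have hRn : R ≤ Subgroup.normalizer (Q' : Set X) := sup_le Subgroup.le_normalizer (Subgroup.zpowers_le.mpr hyQ)
    haveI : (Q'.subgroupOf R).Normal := (Subgroup.normal_subgroupOf_iff_le_normalizer le_sup_left).mpr hRn
    have hRp : IsPGroup q R := by
      refine IsPGroup.to_sup_of_normal_left' hQ'q ?_ (Subgroup.zpowers_le.mpr hyQ)
      refine IsPGroup.of_card (n := 1) ?_
      rw [Nat.card_zpowers, pow_one]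
      exact orderOf_eq_prime (hs y hyH) fun h => hyH (h ▸ one_mem H)
    have hne : Q'.subgroupOf R ≠ ⊥ := by
      rw [Ne, Subgroup.subgroupOf_eq_bot, disjoint_iff, inf_eq_left.mpr (le_sup_left : Q' ≤ R)]
      intro h
      exact hQV (h ▸ bot_le)
    have hzc : Q'.subgroupOf R ⊓ Subgroup.center R ≠ ⊥ := PGroup.inf_center_ne_bot hRp hne
    obtain ⟨z, hz⟩ := exists_prime_orderOf_dvd_card' q (G := (Q'.subgroupOf R ⊓ Subgroup.center R : Subgroup R)) (by
      obtain ⟨k, hk⟩ := IsPGroup.iff_card.mp (hRp.to_subgroup (Q'.subgroupOf R ⊓ Subgroup.center R))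
      rcases k with _ | k
      · exact absurd (Subgroup.card_eq_one.mp (hk.trans (pow_zero q))) hzc
      · rw [hk]; exact dvd_pow_self q (Nat.succ_ne_zero k))
    have hzQ : ((z : R) : X) ∈ Q' := z.2.1
    have hzy : Commute ((z : R) : X) y := (congrArg Subtype.val
      (Subgroup.mem_center_iff.mp z.2.2 ⟨y, Subgroup.mem_sup_right (Subgroup.mem_zpowers y)⟩)).symm
    have hzp : ((z : R) : X) ^ q = 1 := by
      rw [← hz]
      exact congrArg (fun w : (Q'.subgroupOf R ⊓ Subgroup.center R : Subgroup R) => ((w : R) : X)) (pow_orderOf_eq_one z)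
    have hzC := hfaith _ hzQ (hcent _ fun v => by
      refine eq_of_pow_fixed ?_ (pow_fixed_of_two_commuting hp.pos hzy hzp v ?_ ?_)
      · obtain ⟨k, hk⟩ := IsPGroup.iff_card.mp hVr
        rw [hk]; exact ((Nat.coprime_primes hr hp).mpr (Ne.symm hqr)).pow_left k
      · intro k hk0 hk
        exact hnorm1 _ (pow_eq_one_left hp hidx hyH fun h => absurd (Nat.le_of_dvd hk0 h) (by omega)) v
      · intro i hi0 hi
        refine hnorm1 _ (fun h => ?_) v
        exact pow_eq_one_left hp hidx hyH (fun h => absurd (Nat.le_of_dvd hi0 h) (by omega))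
          (by simpa using mul_mem (inv_mem (hQ'H hzQ)) h))
    have : z = 1 := Subtype.ext (Subtype.ext hzC)
    rw [this, orderOf_one] at hz
    exact hp.ne_one hz.symm
  · -- `q ≠ p`
    haveI : Fintype Q' := Fintype.ofFinite _
    have hfix : ∀ w : V, (∀ a ∈ Q', MulAut.conjNormal a w = w) → w = 1 := by
      intro w hw
      set C := V ⊓ Subgroup.centralizer (Q' : Set X) with hC
      have hCn : C.Normal := by
        have hgen : ∀ g, g ∈ Subgroup.normalizer (Q' : Set X) → g ∈ Subgroup.normalizer (C : Set X) := by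
          intro g hg
          rw [Subgroup.mem_normalizer_iff]
          have key : ∀ g, g ∈ Subgroup.normalizer (Q' : Set X) → ∀ c ∈ C, g * c * g⁻¹ ∈ C := by
            intro g hg c hc
            refine ⟨hVn.conj_mem c hc.1 g, ?_⟩
            refine Subgroup.mem_centralizer_iff.mpr fun a ha => ?_
            have ha' : g⁻¹ * a * g ∈ Q' := by
              have := (Subgroup.mem_normalizer_iff.mp (inv_mem hg) a).mp ha
              simpa using this
            have := congrArg (fun z => g * z * g⁻¹) (Subgroup.mem_centralizer_iff.mp hc.2 _ ha')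
            simpa [mul_assoc] using this
          intro c
          refine ⟨key g hg c, fun h => ?_⟩
          have := key g⁻¹ (inv_mem hg) _ h
          simpa [mul_assoc] using this
        refine normal_of_normalizers hp hidx ?_ hyH (hgen y hyQ)
        rw [← hL, sup_le_iff]
        refine ⟨fun a ha => hgen a (hQn a ha), fun v hv => Subgroup.centralizer_le_normalizer _ ?_⟩
        rw [Subgroup.mem_centralizer_iff]
        exact fun c hc => congrArg Subtype.val (mul_comm' (⟨c, hc.1⟩ : V) ⟨v, hv⟩)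
      rcases hVmin C hCn inf_le_left with h | h
      · have hmem : (w : X) ∈ C := by
          refine ⟨w.2, Subgroup.mem_centralizer_iff.mpr fun a ha => ?_⟩
          have := congrArg Subtype.val (hw a ha)
          rw [MulAut.conjNormal_apply] at this
          exact mul_inv_eq_iff_eq_mul.mp this
        rw [h, Subgroup.mem_bot] at hmem
        exact Subtype.ext hmem
      · exfalso
        apply hQV
        intro a ha
        rw [Subgroup.mem_centralizer_iff]
        intro v hv
        have hv' : v ∈ C := h.symm ▸ hv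
        exact ((Subgroup.mem_centralizer_iff.mp hv'.2) a ha).symm
    have hV1 : ∀ v : V, v = 1 := by
      intro v
      have hsum : ∏ a : Q', norm V ((a : X) * y * (a : X)⁻¹) p v = 1 := by
        refine Finset.prod_eq_one fun a _ => hnorm1 _ (fun h => hyH ?_) v
        simpa [mul_assoc] using mul_mem (mul_mem (inv_mem (hQ'H a.2)) h) (hQ'H a.2)
      have h0 : 0 ∈ Finset.range p := Finset.mem_range.mpr hp.pos
      simp only [norm] at hsum
      rw [Finset.prod_comm, Finset.prod_eq_single_of_mem 0 h0] at hsum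
      · simp only [pow_zero, map_one, MulAut.one_apply, Finset.prod_const, Finset.card_univ] at hsum
        obtain ⟨i, hi⟩ := IsPGroup.iff_card.mp hQ'q
        obtain ⟨k, hk⟩ := hVr v
        rw [← Nat.card_eq_fintype_card, hi] at hsum
        rw [← pow_one v, ← ((Nat.coprime_primes (Fact.out : q.Prime) hr).mpr hqr |>.pow i k).gcd_eq_one]
        exact pow_gcd_eq_one.mpr ⟨hsum, hk⟩
      · intro k hk hk0
        have hyk : y ^ k ∉ H := pow_eq_one_left hp hidx hyH fun h =>
          absurd (Nat.le_of_dvd (Nat.pos_of_ne_zero hk0) h) (by have := Finset.mem_range.mp hk; omega)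
        have hykQ : y ^ k ∈ Subgroup.normalizer (Q' : Set X) := pow_mem hyQ k
        -- the map `a ↦ [a, y^k]` permutes `Q'`
        let c : Q' → Q' := fun a => ⟨(a : X) * (y ^ k * (a : X)⁻¹ * (y ^ k)⁻¹),
          mul_mem a.2 ((Subgroup.mem_normalizer_iff.mp hykQ _).mp (inv_mem a.2))⟩
        have hc : Function.Bijective c := by
          rw [Finite.injective_iff_bijective.symm]
          intro a b hab
          have hab' : (a : X) * (y ^ k * (a : X)⁻¹ * (y ^ k)⁻¹) = (b : X) * (y ^ k * (b : X)⁻¹ * (y ^ k)⁻¹) :=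
            congrArg Subtype.val hab
          set d : X := (b : X)⁻¹ * a with hd
          have hdc : Commute d (y ^ k) := by
            show d * y ^ k = y ^ k * d
            have h1 : (a : X) * y ^ k * (a : X)⁻¹ = (b : X) * y ^ k * (b : X)⁻¹ := by
              simpa [mul_assoc] using congrArg (· * y ^ k) hab'
            calc d * y ^ k = (b : X)⁻¹ * ((a : X) * y ^ k * (a : X)⁻¹) * a := by rw [hd]; group
              _ = (b : X)⁻¹ * ((b : X) * y ^ k * (b : X)⁻¹) * a := by rw [h1]
              _ = y ^ k * d := by rw [hd]; group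
          have hdQ : d ∈ Q' := mul_mem (inv_mem b.2) a.2
          have hout : d * y ^ k ∉ H := fun h => hyk (by simpa using mul_mem (inv_mem (hQ'H hdQ)) h)
          have h1 := hs _ hout
          rw [hdc.mul_pow, hs _ hyk, mul_one] at h1
          obtain ⟨i, hi⟩ := hQ'q ⟨d, hdQ⟩
          have hd1 : d = 1 := by
            rw [← pow_one d, ← ((Nat.coprime_primes (Fact.out : q.Prime) hp).mpr hqp |>.pow_left i).gcd_eq_one]
            exact pow_gcd_eq_one.mpr ⟨congrArg Subtype.val hi, h1⟩
          exact Subtype.ext (inv_mul_eq_one.mp hd1).symm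
        set w : V := MulAut.conjNormal (y ^ k) v
        have hterm : ∀ a : Q', MulAut.conjNormal (((a : X) * y * (a : X)⁻¹) ^ k) v =
            MulAut.conjNormal ((c a : Q') : X) w := fun a => by
          rw [← MulAut.mul_apply, ← map_mul, conj_pow]
          congr 2
          show _ = (a : X) * (y ^ k * (a : X)⁻¹ * (y ^ k)⁻¹) * y ^ k
          group
        rw [Finset.prod_congr rfl fun a _ => hterm a, hc.prod_comp (fun a : Q' => MulAut.conjNormal (a : X) w)]
        refine hfix _ fun b hb => ?_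
        rw [map_prod]
        simp only [← MulAut.mul_apply, ← map_mul]
        exact Equiv.prod_comp (Equiv.mulLeft (⟨b, hb⟩ : Q')) (fun a : Q' => MulAut.conjNormal (a : X) w)
    apply hV0
    rw [Subgroup.eq_bot_iff_forall]
    exact fun v hv => congrArg Subtype.val (hV1 ⟨v, hv⟩)

/-- Kegel's theorem in group form, given Thompson's criterion. -/
theorem isNilpotent_of_split (hT : ThompsonCriterion.{u}) [Finite X] (H : Subgroup X) [H.Normal] {p : ℕ}
    (hp : p.Prime) (hidx : H.index = p) (hs : ∀ y, y ∉ H → y ^ p = 1) : Group.IsNilpotent H :=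
  isNilpotent_of_split_aux hT _ X H p hp hidx hs rfl


/-- It is enough that the elements of one coset have order dividing `p`. -/
theorem split_of_coset {X : Type*} [Group X] [Finite X] {H : Subgroup X} [H.Normal] {p : ℕ} (hp : p.Prime)
    (hidx : H.index = p) {x : X} (hx : x ∉ H) (hs : ∀ h ∈ H, (h * x) ^ p = 1) : ∀ y, y ∉ H → y ^ p = 1 := by
  intro y hy
  haveI := Fact.mk hp
  have hcard : Nat.card (X ⧸ H) = p := by rw [← Subgroup.index_eq_card, hidx]
  have hy1 : (y : X ⧸ H) ≠ 1 := fun h => hy ((QuotientGroup.eq_one_iff y).mp h)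
  have hgen : Subgroup.zpowers (y : X ⧸ H) = ⊤ := by
    apply Subgroup.eq_top_of_card_eq
    rw [hcard, Nat.card_zpowers]
    exact ((Nat.dvd_prime hp).mp (hcard ▸ orderOf_dvd_natCard _)).resolve_left (orderOf_eq_one_iff.not.mpr hy1)
  have hmem : (x : X ⧸ H) ∈ Subgroup.zpowers (y : X ⧸ H) := hgen ▸ Subgroup.mem_top _
  rw [← mem_powers_iff_mem_zpowers, Submonoid.mem_powers_iff] at hmem
  obtain ⟨j, hj⟩ := hmem
  rw [← QuotientGroup.mk_pow] at hj
  have hpj : ¬ p ∣ j := by
    rintro ⟨c, rfl⟩
    apply hx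
    rw [← QuotientGroup.eq_one_iff, ← hj, QuotientGroup.eq_one_iff, pow_mul]
    exact pow_mem (hidx ▸ Subgroup.pow_index_mem H y) c
  have hmem' : ∀ m : ℕ, ((y ^ (j + p * m)) : X) ^ p = 1 := by
    intro m
    have h1 : y ^ (j + p * m) * x⁻¹ ∈ H := by
      rw [← QuotientGroup.eq_one_iff, QuotientGroup.mk_mul, pow_add, QuotientGroup.mk_mul, hj, pow_mul,
        (QuotientGroup.eq_one_iff _).mpr (pow_mem (hidx ▸ Subgroup.pow_index_mem H y) m), mul_one,
        QuotientGroup.mk_inv, mul_inv_cancel]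
    simpa using hs _ h1
  have h0 : (y ^ p) ^ j = 1 := by
    have := hmem' 0
    rwa [mul_zero, add_zero, ← pow_mul, mul_comm, pow_mul] at this
  have h1 : (y ^ p) ^ p = 1 := by
    have := hmem' 1
    rw [mul_one, ← pow_mul, add_mul, pow_add, mul_comm j, pow_mul y p j, h0, one_mul, pow_mul] at this
    exact this
  rw [← pow_one (y ^ p), ← (hp.coprime_iff_not_dvd.mpr hpj).gcd_eq_one]
  exact pow_gcd_eq_one.mpr ⟨h1, h0⟩

theorem semidirect_pow {N A : Type*} [Group N] [Group A] (φ : A →* MulAut N) (g : N) (a : A) (n : ℕ) :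
    ((SemidirectProduct.inl g : N ⋊[φ] A) * SemidirectProduct.inr a) ^ n =
      SemidirectProduct.inl (((List.range n).map fun i => φ (a ^ i) g).prod) * SemidirectProduct.inr (a ^ n) := by
  induction n with
  | zero => simp
  | succ n ih =>
    rw [pow_succ, ih, List.range_succ, List.map_append, List.prod_append, List.map_singleton, List.prod_singleton,
      map_mul, pow_succ a n, map_mul]
    simp only [mul_assoc]
    rw [← mul_assoc (SemidirectProduct.inr (a ^ n)) (SemidirectProduct.inl g)]
    rw [show (SemidirectProduct.inr (a ^ n) : N ⋊[φ] A) * SemidirectProduct.inl g =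
      SemidirectProduct.inl (φ (a ^ n) g) * SemidirectProduct.inr (a ^ n) by rw [SemidirectProduct.inl_aut, map_inv, inv_mul_cancel_right]]
    simp only [mul_assoc]

/-- Kegel's theorem for an automorphism. -/
theorem isNilpotent_of_splitting_aut {G : Type u} [Group G] [Finite G] (hT : ThompsonCriterion.{u}) (α : MulAut G)
    (hp : (orderOf α).Prime)
    (hsplit : ∀ x : G, (((List.range (orderOf α)).map (fun i : ℕ => (α ^ i) x)).prod = 1)) : Group.IsNilpotent G := by
  let A : Subgroup (MulAut G) := Subgroup.zpowers α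
  let φ : A →* MulAut G := A.subtype
  let X := G ⋊[φ] A
  haveI : Finite X := Finite.of_equiv (G × A) SemidirectProduct.equivProd.symm
  let H : Subgroup X := (SemidirectProduct.inl : G →* X).range
  have hH : H = (SemidirectProduct.rightHom : X →* A).ker := SemidirectProduct.range_inl_eq_ker_rightHom
  haveI : H.Normal := hH ▸ MonoidHom.normal_ker _
  have hidx : H.index = orderOf α := by
    rw [hH, Subgroup.index_ker, MonoidHom.range_eq_top_of_surjective _ SemidirectProduct.rightHom_surjective,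
      Subgroup.card_top, Nat.card_zpowers]
  let x : X := SemidirectProduct.inr ⟨α, Subgroup.mem_zpowers α⟩
  have hx : x ∉ H := by
    rw [hH, MonoidHom.mem_ker]
    intro h
    have h1 : α = 1 := congrArg Subtype.val h
    exact hp.ne_one (orderOf_eq_one_iff.mpr h1)
  have hs : ∀ h ∈ H, (h * x) ^ orderOf α = 1 := by
    rintro _ ⟨g, rfl⟩
    rw [semidirect_pow]
    have e : (⟨α, Subgroup.mem_zpowers α⟩ : A) ^ orderOf α = 1 := Subtype.ext (pow_orderOf_eq_one α)
    rw [e, map_one, mul_one]
    have e2 := hsplit g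
    show SemidirectProduct.inl (((List.range (orderOf α)).map fun i => φ ((⟨α, Subgroup.mem_zpowers α⟩ : A) ^ i) g).prod) = 1
    rw [show (fun i : ℕ => φ ((⟨α, Subgroup.mem_zpowers α⟩ : A) ^ i) g) = (fun i : ℕ => (α ^ i) g) from rfl, e2, map_one]
  have h1 : Group.IsNilpotent H := isNilpotent_of_split hT H hp hidx (split_of_coset hp hidx hx hs)
  exact (Group.isNilpotent_congr (MonoidHom.ofInjective (f := (SemidirectProduct.inl : G →* X))
    SemidirectProduct.inl_injective).symm).mp h1

/-- If the norms of the powers of `b` and of `a b^i` vanish, the norm of `a` is the `p`-th power map. -/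
theorem norm_eq_pow_of_two_commuting {M : Type*} [CommGroup M] {a b : MulAut M} {p : ℕ}
    (hp : 0 < p) (hab : Commute a b) (v : M)
    (hb : ∀ k, 0 < k → k < p → ∏ j ∈ Finset.range p, ((b ^ k) ^ j) v = 1)
    (hc : ∀ i, 0 < i → i < p → ∏ j ∈ Finset.range p, ((a * b ^ i) ^ j) v = 1) :
    ∏ j ∈ Finset.range p, (a ^ j) v = v ^ p := by
  have h0 : 0 ∈ Finset.range p := Finset.mem_range.mpr hp
  have e1 : ∏ i ∈ Finset.range p, ∏ j ∈ Finset.range p, ((a * b ^ i) ^ j) v = ∏ j ∈ Finset.range p, (a ^ j) v := by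
    rw [Finset.prod_eq_single_of_mem 0 h0 (fun i hi h => hc i (Nat.pos_of_ne_zero h) (Finset.mem_range.mp hi)),
      pow_zero, mul_one]
  rw [← e1, Finset.prod_comm, Finset.prod_eq_single_of_mem 0 h0]
  · simp [pow_zero]
  · intro k hk hk0
    have : ∀ i ∈ Finset.range p, ((a * b ^ i) ^ k) v = (a ^ k) (((b ^ k) ^ i) v) := fun i _ => by
      rw [(hab.pow_right i).mul_pow, ← pow_mul, mul_comm i k, pow_mul, MulAut.mul_apply]
    rw [Finset.prod_congr rfl this, ← map_prod, hb k (Nat.pos_of_ne_zero hk0) (Finset.mem_range.mp hk), map_one]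

/-- An automorphism whose order divides `p` fixes its norms. -/
theorem apply_norm {M : Type*} [CommGroup M] {a : MulAut M} {p : ℕ} (ha : a ^ p = 1) (v : M) :
    a (∏ j ∈ Finset.range p, (a ^ j) v) = ∏ j ∈ Finset.range p, (a ^ j) v := by
  rcases p with _ | m
  · simp
  rw [map_prod]
  have : ∀ k, a ((a ^ k) v) = (a ^ (k + 1)) v := fun k => by rw [← MulAut.mul_apply, ← pow_succ']
  simp only [this]
  rw [Finset.prod_range_succ, Finset.prod_range_succ' (fun k => (a ^ k) v), ha, pow_zero]

open scoped IsMulCommutative in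
/-- The Hughes subgroup of a group that is not a `p`-group has index `p`, and is normal. -/
theorem index_hughes {G : Type*} [Group G] [Finite G] (p : ℕ) (hp : p.Prime) (hG : ¬ IsPGroup p G)
    (hH : Subgroup.closure {g : G | g ^ p ≠ 1} ≠ ⊤) :
    (Subgroup.closure {g : G | g ^ p ≠ 1}).Normal ∧ (Subgroup.closure {g : G | g ^ p ≠ 1}).index = p := by
  haveI := Fact.mk hp
  set H := Subgroup.closure {g : G | g ^ p ≠ 1} with hHdef
  have hout : ∀ g, g ∉ H → g ^ p = 1 := fun g hg => by_contra fun h => hg (Subgroup.subset_closure h)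
  haveI hn : H.Normal := ⟨fun n hn g => by
    have h : H ≤ H.comap (MulAut.conj g).toMonoidHom := (Subgroup.closure_le _).mpr fun x hx =>
      Subgroup.subset_closure (show (g * x * g⁻¹) ^ p ≠ 1 by rw [conj_pow, Ne, conj_eq_one_iff]; exact hx)
    exact h hn⟩
  refine ⟨hn, ?_⟩
  obtain ⟨q, hq, hqp, hqG⟩ : ∃ q, q.Prime ∧ q ≠ p ∧ q ∣ Nat.card G := by
    by_contra h
    push Not at h
    exact hG (IsPGroup.of_card (Nat.eq_prime_pow_of_unique_prime_dvd Nat.card_pos.ne'
      (fun {d} hd hdd => by by_contra hne; exact h d hd hne hdd)))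
  haveI := Fact.mk hq
  have hqmem : ∀ g : G, ∀ k, orderOf g = q ^ k → g ∈ H := by
    intro g k hk
    by_contra hg
    rcases k with _ | k
    · rw [pow_zero, orderOf_eq_one_iff] at hk
      exact hg (hk ▸ one_mem H)
    · have hd : q ∣ p := by
        have := orderOf_dvd_of_pow_eq_one (hout g hg)
        rw [hk] at this
        exact (dvd_pow_self q (Nat.succ_ne_zero k)).trans this
      exact hqp ((Nat.prime_dvd_prime_iff_eq hq hp).mp hd)
  obtain ⟨Q⟩ : Nonempty (Sylow q H) := inferInstance
  set Q' : Subgroup G := (Q : Subgroup H).map H.subtype with hQ'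
  have hQ'q : IsPGroup q Q' := Q.isPGroup'.map _
  have hqH : q ∣ Nat.card H := by
    obtain ⟨g, hg⟩ := exists_prime_orderOf_dvd_card' q hqG
    rw [← hg]
    exact Subgroup.orderOf_dvd_natCard H (hqmem g 1 (by rw [hg, pow_one]))
  -- `V` is the socle of the centre of `Q'`
  let V : Subgroup G :=
    { carrier := {v | v ∈ Q' ⊓ Subgroup.centralizer (Q' : Set G) ∧ v ^ q = 1}
      one_mem' := ⟨one_mem _, one_pow q⟩
      mul_mem' := fun {a b} ha hb => ⟨mul_mem ha.1 hb.1, by
        rw [Commute.mul_pow (show Commute a b from (Subgroup.mem_centralizer_iff.mp hb.1.2) a ha.1.1), ha.2, hb.2, one_mul]⟩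
      inv_mem' := fun {a} ha => ⟨inv_mem ha.1, by rw [inv_pow, ha.2, inv_one]⟩ }
  set N := Subgroup.normalizer (Q' : Set G) with hNdef
  have hsup : N ⊔ H = ⊤ := Sylow.normalizer_sup_eq_top Q
  have hQ'H : Q' ≤ H := Subgroup.map_subtype_le _
  have hVN : V ≤ N := fun v hv => Subgroup.le_normalizer hv.1.1
  haveI hVn : (V.subgroupOf N).Normal := by
    rw [Subgroup.normal_subgroupOf_iff_le_normalizer hVN]
    intro g hg
    rw [Subgroup.mem_normalizer_iff]
    have key : ∀ g ∈ N, ∀ v ∈ V, g * v * g⁻¹ ∈ V := by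
      intro g hg v hv
      refine ⟨⟨(Subgroup.mem_normalizer_iff.mp hg v).mp hv.1.1, Subgroup.mem_centralizer_iff.mpr fun a ha => ?_⟩,
        by rw [conj_pow, hv.2, mul_one, mul_inv_cancel]⟩
      have ha' : g⁻¹ * a * g ∈ Q' := by
        have := (Subgroup.mem_normalizer_iff.mp (inv_mem hg) a).mp ha
        simpa using this
      have := congrArg (fun z => g * z * g⁻¹) (Subgroup.mem_centralizer_iff.mp hv.1.2 _ ha')
      simpa [mul_assoc] using this
    intro v
    refine ⟨key g hg v, fun h => ?_⟩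
    have := key g⁻¹ (inv_mem hg) _ h
    simpa [mul_assoc] using this
  set W : Subgroup N := V.subgroupOf N with hW
  haveI : IsMulCommutative W := ⟨⟨fun a b => Subtype.ext (Subtype.ext
    (((Subgroup.mem_centralizer_iff.mp (show ((b : N) : G) ∈ V from b.2).1.2) _ (show ((a : N) : G) ∈ V from a.2).1.1)))⟩⟩
  obtain ⟨v₀, hv₀⟩ : ∃ v : W, v ≠ 1 := by
    have hZ : Q' ⊓ Subgroup.centralizer (Q' : Set G) ≠ ⊥ := exists_pi_subgroup hQ'q (by
      rw [hQ', Ne, Subgroup.map_eq_bot_iff_of_injective _ H.subtype_injective]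
      exact Q.ne_bot_of_dvd_card hqH)
    obtain ⟨k, hk⟩ := IsPGroup.iff_card.mp (hQ'q.to_le (inf_le_left (b := Subgroup.centralizer (Q' : Set G))))
    rcases k with _ | k
    · exact absurd (Subgroup.card_eq_one.mp (hk.trans (pow_zero q))) hZ
    obtain ⟨v, hv⟩ := exists_prime_orderOf_dvd_card' q (hk ▸ dvd_pow_self q (Nat.succ_ne_zero k))
    have hv' : (v : G) ∈ V := ⟨v.2, by rw [← hv, ← Subgroup.orderOf_coe, pow_orderOf_eq_one]⟩
    refine ⟨⟨⟨v, hVN hv'⟩, hv'⟩, fun h => hq.ne_one ?_⟩
    rw [← hv, orderOf_eq_one_iff]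
    exact Subtype.ext (congrArg (fun w : W => ((w : N) : G)) h)
  obtain ⟨R₀⟩ : Nonempty (Sylow p N) := inferInstance
  have hqW : (Nat.card W).Coprime p := by
    obtain ⟨k, hk⟩ := IsPGroup.iff_card.mp ((hQ'q.to_le (show V ≤ Q' from fun v hv => hv.1.1)).of_equiv
      (Subgroup.subgroupOfEquivOfLe hVN).symm)
    show (Nat.card (V.subgroupOf N)).Coprime p
    rw [hk]; exact ((Nat.coprime_primes hq hp).mpr hqp).pow_left k
  have hnorm1 : ∀ g : N, (g : G) ∉ H → ∀ v : W, norm W g p v = 1 := fun g hg v =>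
    norm_eq_one (Subtype.ext (hout g hg)) (Subtype.ext (hout _ fun h => hg (by
      simpa using mul_mem (inv_mem (hQ'H (show ((v : N) : G) ∈ V from v.2).1.1)) h)))
  -- every element of `R₀` outside `H` generates the image of the centre
  let θ : N →* MulAut W := MulAut.conjNormal
  have hnormθ : ∀ g : N, (g : G) ∉ H → ∀ v : W, ∏ k ∈ Finset.range p, (θ g ^ k) v = 1 := fun g hg v => by
    have h := hnorm1 g hg v
    simp only [norm] at h
    simpa only [θ, ← map_pow] using h
  have hθfix : ∀ g : N, (g : G) ∉ H → θ g ≠ 1 := by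
    intro g hg h
    apply hv₀
    have h1 := hnormθ g hg v₀
    rw [h] at h1
    simp only [one_pow, MulAut.one_apply, Finset.prod_const, Finset.card_range] at h1
    exact (powCoprime hqW).injective (show v₀ ^ p = (1 : W) ^ p by rw [h1, one_pow])
  let f : N →* G ⧸ H := (QuotientGroup.mk' H).comp N.subtype
  have hf : Function.Surjective f := by
    intro x
    induction x using QuotientGroup.induction_on with
    | _ g =>
      have hg' : g ∈ N ⊔ H := hsup ▸ Subgroup.mem_top g
      rw [Subgroup.mem_sup_of_normal_right] at hg'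
      obtain ⟨u, hu, h, hh, rfl⟩ := hg'
      exact ⟨⟨u, hu⟩, (QuotientGroup.eq.mpr (by simpa using hh))⟩
  have hpG : IsPGroup p (G ⧸ H) := by
    intro x
    induction x using QuotientGroup.induction_on with
    | _ g =>
      refine ⟨1, ?_⟩
      rw [pow_one, ← QuotientGroup.mk_pow, QuotientGroup.eq_one_iff]
      by_cases hg : g ∈ H
      · exact pow_mem hg p
      · rw [hout g hg]; exact one_mem H
  have hRtop : (R₀ : Subgroup N).map f = ⊤ := by
    have h := (R₀.mapSurjective hf).is_maximal' (hpG.of_injective _ (Subgroup.subtype_injective ⊤)) le_top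
    exact h.symm
  have hindex : H.index ≠ 1 := fun h => hH (Subgroup.index_eq_one.mp h)
  obtain ⟨r₁, hr₁, hr₁H⟩ : ∃ r ∈ (R₀ : Subgroup N), (r : G) ∉ H := by
    by_contra h
    push Not at h
    apply hindex
    rw [Subgroup.index_eq_card, ← Subgroup.card_top, ← hRtop, Subgroup.card_eq_one, Subgroup.eq_bot_iff_forall]
    rintro _ ⟨r, hr, rfl⟩
    exact (QuotientGroup.eq_one_iff _).mpr (h r hr)
  -- a central element of order `p` of the image of `R₀`
  set R : Subgroup (MulAut W) := (R₀ : Subgroup N).map θ with hRdef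
  have hRp : IsPGroup p R := R₀.isPGroup'.map θ
  haveI : Nontrivial R := (Subgroup.nontrivial_iff_ne_bot R).mpr fun h => hθfix r₁ hr₁H (by
    rw [← Subgroup.mem_bot, ← h]; exact Subgroup.mem_map_of_mem θ hr₁)
  haveI : Nontrivial (Subgroup.center R) := hRp.center_nontrivial
  obtain ⟨k, hk⟩ := IsPGroup.iff_card.mp (hRp.to_subgroup (Subgroup.center R))
  rcases k with _ | k
  · exact absurd (hk.trans (pow_zero p)) Finite.one_lt_card.ne'
  obtain ⟨ζ', hζ'⟩ := exists_prime_orderOf_dvd_card' p (hk ▸ dvd_pow_self p (Nat.succ_ne_zero k))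
  obtain ⟨z, hz, hzeq⟩ : ∃ z ∈ (R₀ : Subgroup N), θ z = ((ζ' : R) : MulAut W) := Subgroup.mem_map.mp (ζ' : R).2
  have hζord : orderOf (θ z) = p := by rw [hzeq, Subgroup.orderOf_coe, Subgroup.orderOf_coe, hζ']
  have hζc : ∀ r ∈ (R₀ : Subgroup N), Commute (θ z) (θ r) := fun r hr => by
    rw [hzeq]
    exact (congrArg Subtype.val (Subgroup.mem_center_iff.mp ζ'.2 ⟨θ r, Subgroup.mem_map_of_mem θ hr⟩)).symm
  have houtside : ∀ r ∈ (R₀ : Subgroup N), (r : G) ∉ H → θ r ∈ Subgroup.zpowers (θ z) := by
    intro r hr hrH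
    have hrp : θ r ^ p = 1 := by rw [← map_pow, show r ^ p = 1 from Subtype.ext (hout r hrH), map_one]
    have hrk : ∀ k, 0 < k → k < p → ((r ^ k : N) : G) ∉ H := by
      intro k hk0 hkp h
      apply hrH
      rw [Subgroup.coe_pow] at h
      exact Transfer.mem_of_pow_mem_of_coprime
        ((hp.coprime_iff_not_dvd.mpr fun hd => absurd (Nat.le_of_dvd hk0 hd) (by omega)).symm) h
        (by rw [hout r hrH]; exact one_mem H)
    have hb : ∀ (v : W) (k : ℕ), 0 < k → k < p → ∏ j ∈ Finset.range p, ((θ r ^ k) ^ j) v = 1 := fun v k hk0 hkp => by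
      simpa only [map_pow] using hnormθ (r ^ k) (hrk k hk0 hkp) v
    by_cases hall : ∀ i < p, ((z * r ^ i : N) : G) ∉ H
    · exfalso
      apply hv₀
      have h1 := norm_eq_pow_of_two_commuting hp.pos (hζc r hr) v₀ (hb v₀)
        (fun i _ hip => by simpa only [map_mul, map_pow] using hnormθ (z * r ^ i) (hall i hip) v₀)
      have h2 : ∏ k ∈ Finset.range p, (θ z ^ k) v₀ = 1 := hnormθ z (by simpa using hall 0 hp.pos) v₀
      rw [h2] at h1
      exact (powCoprime hqW).injective (show v₀ ^ p = (1 : W) ^ p by rw [← h1, one_pow])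
    · push Not at hall
      obtain ⟨i, -, hi⟩ := hall
      have hab : Commute (θ (z * r ^ i)) (θ r) := by
        rw [map_mul, map_pow]
        exact (hζc r hr).mul_left ((Commute.refl (θ r)).pow_left i)
      have hap : θ (z * r ^ i) ^ p = 1 := by
        rw [map_mul, map_pow, ((hζc r hr).pow_right i).mul_pow, ← pow_mul, mul_comm, pow_mul, hrp, one_pow, mul_one,
          ← hζord, pow_orderOf_eq_one]
      have ha1 : θ (z * r ^ i) = 1 := by
        refine MulEquiv.ext fun v => (powCoprime hqW).injective ?_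
        show (θ (z * r ^ i) v) ^ p = v ^ p
        have h1 := norm_eq_pow_of_two_commuting hp.pos hab v (hb v)
          (fun j hj0 hjp => by
            have hout' : (((z * r ^ i) * r ^ j : N) : G) ∉ H := fun h => hrk j hj0 hjp (by
              simpa [mul_assoc] using mul_mem (inv_mem hi) h)
            simpa only [map_mul, map_pow] using hnormθ _ hout' v)
        rw [← map_pow, ← h1]
        exact apply_norm hap v
      rw [map_mul, map_pow] at ha1
      have hmem : θ z ∈ Subgroup.zpowers (θ r) := by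
        rw [eq_inv_of_mul_eq_one_left ha1]
        exact inv_mem (pow_mem (Subgroup.mem_zpowers _) i)
      have he : Subgroup.zpowers (θ z) = Subgroup.zpowers (θ r) := by
        refine Subgroup.eq_of_le_of_card_ge (Subgroup.zpowers_le.mpr hmem) ?_
        rw [Nat.card_zpowers, Nat.card_zpowers, hζord, orderOf_eq_prime hrp (hθfix r hrH)]
      exact he ▸ Subgroup.mem_zpowers _
  have hRle : R ≤ Subgroup.zpowers (θ z) := by
    rintro _ ⟨r, hr, rfl⟩
    by_cases hrH : (r : G) ∈ H
    · have h1 := houtside (r * r₁) (mul_mem hr hr₁) (fun h => hr₁H (by simpa using mul_mem (inv_mem hrH) h))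
      have h2 := houtside r₁ hr₁ hr₁H
      simpa [map_mul] using mul_mem h1 (inv_mem h2)
    · exact houtside r hr hrH
  have hker : (θ.comp (R₀ : Subgroup N).subtype).ker ≤ (f.comp (R₀ : Subgroup N).subtype).ker := by
    intro r hr
    rw [MonoidHom.mem_ker] at hr ⊢
    refine (QuotientGroup.eq_one_iff _).mpr ?_
    by_contra h
    exact hθfix (r : N) h hr
  have hdvd := Subgroup.index_dvd_of_le hker
  rw [Subgroup.index_ker, Subgroup.index_ker, MonoidHom.range_comp, MonoidHom.range_comp, Subgroup.range_subtype,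
    hRtop, Subgroup.card_top, ← Subgroup.index_eq_card] at hdvd
  refine ((Nat.dvd_prime hp).mp (hdvd.trans ?_)).resolve_left hindex
  have h := Subgroup.card_dvd_of_le hRle
  rwa [Nat.card_zpowers, hζord] at h

end Cfsg.Agent.SplitAut
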